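import Groth.Agent.L07.CartierSmooth.Scheme
import Groth.Agent.L07.QuasiSmoothSection
import Groth.Agent.L11.BlowSmooth.Sch

/-! Blowing up a smooth pair. -/

set_option autoImplicit false
set_option maxSynthPendingDepth 3
set_option backward.isDefEq.respectTransparency false
set_option backward.isDefEq.respectTransparency.types false
set_option linter.all false
noncomputable section
universe u
open CategoryTheory CategoryTheory.Limits AlgebraicGeometry TopologicalSpace

namespace Groth.L07.CartierSmooth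

/-- a closed immersion between smooth schemes is quasi-regular -/
theorem quasiAt_of_smooth_pair {Z X S : Scheme.{u}} (q : X ⟶ S) [Smooth q] (i : Z ⟶ X) [IsClosedImmersion i]
    [Smooth (i ≫ q)] (z : Z) : RegImm.IsRegularImmersionAt RegImm.Kind.quasi i z :=
  Groth.L07.QuasiSmoothSection.quasiAt_of_koszulAt
    (Groth.L07.RegImmAt.regularAt_of_isKoszulAt (i ≫ q) z
      ⟨⊤, Z, (⊤ : Z.Opens).ι, i ≫ q, trivial, inferInstance,
        ⟨inferInstance, fun w => Groth.L07.QuasiSmoothSection.regularAt_opensι ⊤ w⟩, inferInstance, rfl⟩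
      q i rfl)

/-- the exceptional divisor of a quasi-regular centre is smooth over it -/
theorem smooth_exceptional {X X' Y : Scheme.{u}} (i : Y ⟶ X) [IsClosedImmersion i]
    (hreg : ∀ y, RegImm.IsRegularImmersionAt RegImm.Kind.quasi i y)
    (b : X' ⟶ X) (hb : BlowUp.IsBlowUp b i.ker) (g : (BlowUp.exceptional b i.ker).subscheme ⟶ Y)
    (hg : g ≫ i = (BlowUp.exceptional b i.ker).subschemeι ≫ b) : Smooth g := by
  have key : ∀ e : (BlowUp.exceptional b i.ker).subscheme,
      ∃ (W : Scheme.{u}) (q : W ⟶ (BlowUp.exceptional b i.ker).subscheme),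
        IsOpenImmersion q ∧ e ∈ Set.range q ∧ Smooth (q ≫ g) := by
    intro e
    obtain ⟨U, hzU, -, rs, hqr, hker⟩ := hreg (g e)
    let f : Fin rs.length → Γ(X, U.1) := rs.get
    have hI : i.ker.ideal U = Groth.L11.BlowSmooth.sI f := by
      rw [Scheme.Hom.ker_apply, hker, Ideal.ofList, Groth.L11.BlowSmooth.sI]
      congr 1
      ext a
      simp [f, List.mem_iff_get, eq_comm]
    have hbe : b ((BlowUp.exceptional b i.ker).subschemeι e) ∈ U.1 := by
      rw [← Scheme.Hom.comp_apply, ← hg, Scheme.Hom.comp_apply]; exact hzU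
    obtain ⟨k, j, hj, hej, hjb⟩ :=
      Groth.L11.BlowSmooth.exists_blowUp_chart b i.ker hb U f hI _ hbe
    haveI := hj
    exact Groth.L11.BlowSmooth.exists_smooth_piece i b (BlowUp.exceptional b i.ker).subschemeι g hg
      (Scheme.IdealSheafData.ker_subschemeι _) _ (Groth.L11.BlowSmooth.sh f k) U.2.fromSpec
      ((Groth.L11.BlowSmooth.comap_fromSpec i.ker U).trans
        (congrArg Groth.L13.BU.idealOf hI)) j hjb e hej
      (Groth.L11.BlowSmooth.smooth_chart f k hqr)
  choose W q hqo hmem hsm using key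
  refine IsZariskiLocalAtSource.of_iSup_eq_top (P := @Smooth)
    (fun e => haveI := hqo e; (q e).opensRange) ?_ fun e => ?_
  · refine TopologicalSpace.Opens.ext (Set.eq_univ_of_forall fun e => ?_)
    exact TopologicalSpace.Opens.mem_iSup.2 ⟨e, hmem e⟩
  · haveI := hqo e
    haveI := hsm e
    rw [← (q e).isoOpensRange_inv_comp, Category.assoc]
    infer_instance

/-- blowing up a smooth pair -/
theorem smooth_blowUp_pair {Z X X' S : Scheme.{u}} (q : X ⟶ S) [Smooth q] (i : Z ⟶ X) [IsClosedImmersion i]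
    [Smooth (i ≫ q)] (b : X' ⟶ X) (hb : BlowUp.IsBlowUp b i.ker) :
    Smooth (b ≫ q) ∧ Smooth ((BlowUp.exceptional b i.ker).subschemeι ≫ b ≫ q) := by
  let e := (BlowUp.exceptional b i.ker).subschemeι
  have hle : i.ker ≤ (e ≫ b).ker := by
    rw [← Scheme.IdealSheafData.map_ker, Scheme.IdealSheafData.le_map_iff_comap_le,
      Scheme.IdealSheafData.ker_subschemeι]
  let g := IsClosedImmersion.lift i (e ≫ b) hle
  have hg : g ≫ i = e ≫ b := IsClosedImmersion.lift_fac _ _ _
  haveI := smooth_exceptional i (quasiAt_of_smooth_pair q i) b hb g hg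
  have hE : Smooth (e ≫ b ≫ q) := by
    rw [← reassoc_of% hg]
    infer_instance
  refine ⟨?_, hE⟩
  haveI : Smooth (i.ker.subschemeι ≫ q) := by
    rw [← IsIso.inv_hom_id_assoc i.toImage (i.ker.subschemeι ≫ q), Scheme.Hom.toImage_imageι_assoc]
    infer_instance
  have key : ∀ x : X', ∃ W : X'.Opens, x ∈ W ∧ Smooth (W.ι ≫ b ≫ q) := by
    intro x
    by_cases hx : b x ∈ i.ker.support
    · obtain ⟨x', rfl⟩ : x ∈ Set.range e := by
        rw [(BlowUp.exceptional b i.ker).range_subschemeι, Scheme.IdealSheafData.support_comap]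
        exact hx
      haveI : Smooth ((⊤ : (BlowUp.exceptional b i.ker).subscheme.Opens).ι ≫ e ≫ b ≫ q) := inferInstance
      exact exists_smooth_nhd q i.ker b hb x' ⊤ trivial
    · let C : X.Opens := i.ker.support.compl
      haveI : IsIso (b ∣_ C) := Groth.L22.Ideals.isIso_restrict_compl hb
      refine ⟨b ⁻¹ᵁ C, hx, ?_⟩
      rw [← morphismRestrict_ι_assoc]
      infer_instance
  choose W hxW hW using key
  refine IsZariskiLocalAtSource.of_iSup_eq_top (P := @Smooth) W ?_ hW
  exact TopologicalSpace.Opens.ext (Set.eq_univ_of_forall fun x => TopologicalSpace.Opens.mem_iSup.2 ⟨x, hxW x⟩)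

end Groth.L07.CartierSmooth
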